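import Cfsg.Agent.Lib.Helper95.Glue

set_option autoImplicit false

namespace Cfsg.Agent.Lib.Helper95

open Matrix Module

variable {ι : Type} [Fintype ι] [DecidableEq ι] {F : Type*} [Field F]

/-- Transfer of a maximality statement from linear automorphisms to `GL ι F`. -/
lemma isMaximalIn_transfer {K S : Subgroup (Matrix.GeneralLinearGroup ι F)}
    {K' S' : Subgroup ((ι → F) ≃ₗ[F] (ι → F))}
    (hK : ∀ g, g ∈ K ↔ glEquiv g ∈ K') (hS : ∀ g, g ∈ S ↔ glEquiv g ∈ S')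
    (hne : ∃ g ∈ K', g ∉ S')
    (hmax : ∀ M' : Subgroup ((ι → F) ≃ₗ[F] (ι → F)), K' ⊓ S' ≤ M' → M' ≤ K' →
      ∀ g ∈ M', g ∉ S' → K' ≤ M') :
    Cfsg.Geo.IsMaximalIn K (S ⊓ K) := by
  refine isMaximalIn_of inf_le_right ?_ ?_
  · obtain ⟨g, hg, hgS⟩ := hne
    refine ⟨glEquiv.symm g, ?_, ?_⟩
    · rw [hK, MulEquiv.apply_symm_apply]; exact hg
    · intro h
      apply hgS
      have := (hS _).1 h.1
      rwa [MulEquiv.apply_symm_apply] at this
  · intro M hHM hMK g hgM hgH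
    have hgK := hMK hgM
    have key : K' ≤ toLinGrp M := by
      refine hmax (toLinGrp M) ?_ ?_ (glEquiv g) (glEquiv_mem_toLinGrp.2 hgM) ?_
      · intro e he
        obtain ⟨he1, he2⟩ := Subgroup.mem_inf.1 he
        rw [mem_toLinGrp]
        apply hHM
        rw [Subgroup.mem_inf, hS, hK, MulEquiv.apply_symm_apply]
        exact ⟨he2, he1⟩
      · intro e he
        rw [mem_toLinGrp] at he
        have := (hK _).1 (hMK he)
        rwa [MulEquiv.apply_symm_apply] at this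
      · intro h
        exact hgH ⟨(hS g).2 h, hgK⟩
    intro x hx
    exact glEquiv_mem_toLinGrp.1 (key ((hK x).1 hx))

/-- Transfer of a "strictly between" statement. -/
lemma exists_between_transfer {K S : Subgroup (Matrix.GeneralLinearGroup ι F)}
    {K' S' L' : Subgroup ((ι → F) ≃ₗ[F] (ι → F))}
    (hK : ∀ g, g ∈ K ↔ glEquiv g ∈ K') (hS : ∀ g, g ∈ S ↔ glEquiv g ∈ S')
    (hSL : K' ⊓ S' ≤ L') (h1 : ∃ g ∈ K', g ∈ L' ∧ g ∉ S') (h2 : ∃ g ∈ K', g ∉ L') :
    ∃ L : Subgroup (Matrix.GeneralLinearGroup ι F), S ⊓ K < L ∧ L < K := by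
  refine ⟨(L'.comap (glEquiv (ι := ι) (F := F)).toMonoidHom) ⊓ K, ?_, ?_⟩
  · refine lt_of_le_of_ne ?_ ?_
    · intro g hg
      obtain ⟨hg1, hg2⟩ := Subgroup.mem_inf.1 hg
      refine Subgroup.mem_inf.2 ⟨?_, hg2⟩
      exact hSL (Subgroup.mem_inf.2 ⟨(hK g).1 hg2, (hS g).1 hg1⟩)
    · intro heq
      obtain ⟨g, hgK, hgL, hgS⟩ := h1
      have : glEquiv.symm g ∈ (L'.comap (glEquiv (ι := ι) (F := F)).toMonoidHom) ⊓ K := by
        refine Subgroup.mem_inf.2 ⟨?_, ?_⟩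
        · change glEquiv (glEquiv.symm g) ∈ L'
          rwa [MulEquiv.apply_symm_apply]
        · rw [hK, MulEquiv.apply_symm_apply]; exact hgK
      rw [← heq] at this
      have h3 := (hS _).1 (Subgroup.mem_inf.1 this).1
      rw [MulEquiv.apply_symm_apply] at h3
      exact hgS h3
  · refine lt_of_le_of_ne inf_le_right ?_
    intro heq
    obtain ⟨g, hgK, hgL⟩ := h2
    have : glEquiv.symm g ∈ K := by rw [hK, MulEquiv.apply_symm_apply]; exact hgK
    rw [← heq] at this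
    have h3 : glEquiv (glEquiv.symm g) ∈ L' := (Subgroup.mem_inf.1 this).1
    rw [MulEquiv.apply_symm_apply] at h3
    exact hgL h3

end Cfsg.Agent.Lib.Helper95
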