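import Cfsg.Agent.Lib.Helper95.Glue2

set_option autoImplicit false

namespace Cfsg.Agent.Lib.Helper95

open Matrix Module

variable {ι : Type} [Fintype ι] [DecidableEq ι] {F : Type*} [Field F]

omit [Fintype ι] in
lemma diag_eq_single {i j : ι} (hij : i ≠ j) (c : F) :
    (diagonal (fun k ↦ if k = i then c else if k = j then c⁻¹ else 1) : Matrix ι ι F)
      = 1 + single i i (c - 1) + single j j (c⁻¹ - 1) := by
  ext k l
  simp only [diagonal_apply, Matrix.add_apply, one_apply, single_apply]
  by_cases hkl : k = l
  · subst hkl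
    by_cases hki : k = i
    · subst hki; simp [hij.symm]
    · by_cases hkj : k = j
      · subst hkj; simp [hij, hij.symm]
      · simp [hki, hkj, Ne.symm hki, Ne.symm hkj]
  · have h1 : ¬ (i = k ∧ i = l) := fun h => hkl (h.1.symm.trans h.2)
    have h2 : ¬ (j = k ∧ j = l) := fun h => hkl (h.1.symm.trans h.2)
    simp [hkl, h1, h2]

lemma mat_identity {i j : ι} (hij : i ≠ j) (c : F) (hc : c ≠ 0) :
    (1 + single i j c) * (1 + single j i (-c⁻¹)) * (1 + single i j c) * (1 + single i j (-1)) *
      (1 + single j i 1) * (1 + single i j (-1))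
    = (1 + single i i (c - 1) + single j j (c⁻¹ - 1) : Matrix ι ι F) := by
  have hs : ∀ (a b : ι) (x : F), single a b x = x • single a b (1 : F) := by
    intro a b x; simp [smul_single]
  simp only [add_mul, mul_add, one_mul, mul_one,
    single_mul_single_same, single_mul_single_of_ne _ _ _ _ hij,
    single_mul_single_of_ne _ _ _ _ hij.symm, add_zero]
  simp only [mul_neg, neg_mul, mul_one, one_mul, neg_neg, mul_inv_cancel₀ hc, inv_mul_cancel₀ hc]
  simp only [hs _ _ c, hs _ _ (-c⁻¹), hs _ _ (-1), hs _ _ c⁻¹, hs _ _ (-c), hs _ _ (c-1),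
    hs _ _ (c⁻¹-1)]
  module

lemma diag2n_decompose {i j : ι} (hij : i ≠ j) (c : F) (hc : c ≠ 0) :
    SpecialLinearGroup.diag2n hij c hc =
      SpecialLinearGroup.transvection hij c * SpecialLinearGroup.transvection hij.symm (-c⁻¹) *
      SpecialLinearGroup.transvection hij c * SpecialLinearGroup.transvection hij (-1) *
      SpecialLinearGroup.transvection hij.symm 1 * SpecialLinearGroup.transvection hij (-1) := by
  apply SpecialLinearGroup.coeMonoidHom_injective
  simp only [map_mul, SpecialLinearGroup.coeMonoidHom_apply, SpecialLinearGroup.transvection_coe,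
    SpecialLinearGroup.diag2n_coe]
  rw [mat_identity hij c hc, diag_eq_single hij]

/-- A subgroup of `GL` containing the elementary transvections contains the special linear group. -/
theorem specialLinear_le_of_elementary [Nontrivial ι] (M : Subgroup (Matrix.GeneralLinearGroup ι F))
    (h : ∀ (i j : ι), i ≠ j → ∀ (c : F) (g : Matrix.GeneralLinearGroup ι F),
      (g : Matrix ι ι F) = 1 + single i j c → g ∈ M) :
    Cfsg.Geo.specialLinear ι F ≤ M := by
  intro g hg
  have hdet : (g : Matrix ι ι F).det = 1 := by
    have h1 : Matrix.GeneralLinearGroup.det g = 1 := hg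
    have h2 := congrArg Units.val h1
    simpa using h2
  have htv : ∀ (i j : ι) (hij : i ≠ j) (a : F),
      SpecialLinearGroup.toGL (SpecialLinearGroup.transvection hij a) ∈ M := by
    intro i j hij a
    exact h i j hij a _ (by simp [SpecialLinearGroup.transvection_coe])
  have key : ∀ A : SpecialLinearGroup ι F, SpecialLinearGroup.toGL A ∈ M := by
    intro A
    refine SpecialLinearGroup.diagonal_transvection_induction'
      (fun A => SpecialLinearGroup.toGL A ∈ M) A ?_ htv ?_
    · intro i j hij c hc
      rw [diag2n_decompose hij c hc]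
      simp only [map_mul]
      exact mul_mem (mul_mem (mul_mem (mul_mem (mul_mem (htv _ _ _ _) (htv _ _ _ _)) (htv _ _ _ _))
        (htv _ _ _ _)) (htv _ _ _ _)) (htv _ _ _ _)
    · intro A B hA hB
      simp only [map_mul]
      exact mul_mem hA hB
  have := key ⟨(g : Matrix ι ι F), hdet⟩
  have e : SpecialLinearGroup.toGL ⟨(g : Matrix ι ι F), hdet⟩ = g := by
    apply Units.ext
    rfl
  rwa [e] at this

lemma mem_specialLinear_iff (g : Matrix.GeneralLinearGroup ι F) :
    g ∈ Cfsg.Geo.specialLinear ι F ↔ (g : Matrix ι ι F).det = 1 := by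
  constructor
  · intro hg
    have h1 : Matrix.GeneralLinearGroup.det g = 1 := hg
    have h2 := congrArg Units.val h1
    simpa using h2
  · intro h
    change Matrix.GeneralLinearGroup.det g = 1
    apply Units.ext
    simpa using h

/-- The determinant-one linear automorphisms. -/
noncomputable def slGrp (K V : Type*) [Field K] [AddCommGroup V] [Module K V] : Subgroup (V ≃ₗ[K] V) :=
  (LinearEquiv.det : (V ≃ₗ[K] V) →* Kˣ).ker

lemma mem_specialLinear_iff' (g : Matrix.GeneralLinearGroup ι F) :
    g ∈ Cfsg.Geo.specialLinear ι F ↔ glEquiv g ∈ slGrp F (ι → F) := by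
  rw [mem_specialLinear_iff]
  change _ ↔ LinearEquiv.det (glEquiv g) = 1
  have h : ((LinearEquiv.det (glEquiv g) : Fˣ) : F) = (g : Matrix ι ι F).det := by
    rw [LinearEquiv.coe_det]
    have : ((glEquiv g : (ι → F) ≃ₗ[F] (ι → F)) : (ι → F) →ₗ[F] (ι → F))
        = Matrix.toLin' (g : Matrix ι ι F) := by
      ext x; simp
    rw [this, LinearMap.det_toLin']
  rw [← h]
  exact ⟨fun h => Units.ext h, fun h => by rw [h]; rfl⟩

/-- A subgroup of linear automorphisms of `ι → F` containing all transvections contains `SL`. -/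
theorem slGrp_le_of_transvections [Nontrivial ι] (M' : Subgroup ((ι → F) ≃ₗ[F] (ι → F)))
    (h : ∀ (f : Module.Dual F (ι → F)) (v : ι → F) (hfv : f v = 0),
      LinearEquiv.transvection hfv ∈ M') : slGrp F (ι → F) ≤ M' := by
  have h1 : Cfsg.Geo.specialLinear ι F ≤ M'.comap (glEquiv (ι := ι) (F := F)).toMonoidHom := by
    apply specialLinear_le_of_elementary
    intro i j hij c g hg
    change glEquiv g ∈ M'
    have hfv : (c • (LinearMap.proj j : (ι → F) →ₗ[F] F)) (Pi.single i 1) = 0 := by
      simp [hij]
    have : glEquiv g = LinearEquiv.transvection hfv := by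
      ext x k
      simp only [glEquiv_apply, hg, LinearEquiv.transvection.apply, Matrix.add_mulVec,
        Matrix.one_mulVec, Pi.add_apply, LinearMap.smul_apply, LinearMap.proj_apply, smul_eq_mul,
        Pi.smul_apply]
      congr 1
      by_cases hk : k = i
      · subst hk; simp [Matrix.mulVec, dotProduct, single_apply]
      · simp [Matrix.mulVec, dotProduct, hk, Ne.symm hk]
    rw [this]
    exact h _ _ _
  intro e he
  have h2 : glEquiv.symm e ∈ Cfsg.Geo.specialLinear ι F := by
    rw [mem_specialLinear_iff', MulEquiv.apply_symm_apply]; exact he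
  have h3 : glEquiv (glEquiv.symm e) ∈ M' := h1 h2
  rwa [MulEquiv.apply_symm_apply] at h3

end Cfsg.Agent.Lib.Helper95
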