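import Mathlib

set_option autoImplicit false

namespace Cfsg.Agent.Lib.Helper95

open LinearMap Module

variable {K V : Type*} [Field K] [AddCommGroup V] [Module K V]

/-- The isometry group of a bilinear form, inside the group of linear automorphisms. -/
def isoGrp (B : LinearMap.BilinForm K V) : Subgroup (V ≃ₗ[K] V) where
  carrier := {g | ∀ x y, B (g x) (g y) = B x y}
  mul_mem' {a b} ha hb := by
    intro x y
    simp only [LinearEquiv.mul_apply]
    rw [ha, hb]
  one_mem' := by intro x y; simp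
  inv_mem' {a} ha := by
    intro x y
    have h := ha (a⁻¹ x) (a⁻¹ y)
    simpa using h.symm

lemma mem_isoGrp {B : LinearMap.BilinForm K V} {g : V ≃ₗ[K] V} :
    g ∈ isoGrp B ↔ ∀ x y, B (g x) (g y) = B x y := Iff.rfl

/-- The symplectic transvection `x ↦ x + c B(x, v) v`. -/
def stv (B : LinearMap.BilinForm K V) (hB : B.IsAlt) (v : V) (c : K) : V ≃ₗ[K] V :=
  LinearEquiv.transvection (f := c • B.flip v) (v := v) (by simp [hB v])

variable {B : LinearMap.BilinForm K V} (hB : B.IsAlt)

@[simp] lemma stv_apply (v : V) (c : K) (x : V) : stv B hB v c x = x + (c * B x v) • v := by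
  simp [stv, LinearMap.transvection.apply]

include hB in
lemma alt_swap (x y : V) : B x y = - B y x := by
  rw [← hB.neg_eq y x]

lemma stv_mem_isoGrp (v : V) (c : K) : stv B hB v c ∈ isoGrp B := by
  intro x y
  simp only [stv_apply, map_add, map_smul, LinearMap.add_apply, LinearMap.smul_apply, smul_eq_mul,
    hB v]
  rw [alt_swap hB v y]
  ring

lemma stv_zero_left (c : K) : stv B hB 0 c = 1 := by
  ext x; simp

lemma stv_inv (v : V) (c : K) : (stv B hB v c)⁻¹ = stv B hB v (-c) := by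
  rw [inv_eq_iff_mul_eq_one]
  ext x
  simp [hB v, LinearEquiv.mul_apply]

lemma stv_smul (v : V) (a c : K) : stv B hB (a • v) c = stv B hB v (a ^ 2 * c) := by
  ext x
  simp only [stv_apply, map_smul, smul_eq_mul, smul_smul]
  congr 2; ring

lemma conj_stv {g : V ≃ₗ[K] V} (hg : g ∈ isoGrp B) (v : V) (c : K) :
    g * stv B hB v c * g⁻¹ = stv B hB (g v) c := by
  ext x
  have h : B (g.symm x) v = B x (g v) := by
    have := hg (g.symm x) v
    simpa using this.symm
  simp [LinearEquiv.mul_apply, h]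


lemma exists_mem_ne_zero_both (U : Submodule K V) (φ ψ : V →ₗ[K] K)
    (hφ : ∃ x ∈ U, φ x ≠ 0) (hψ : ∃ y ∈ U, ψ y ≠ 0) : ∃ z ∈ U, φ z ≠ 0 ∧ ψ z ≠ 0 := by
  obtain ⟨x, hxU, hx⟩ := hφ
  obtain ⟨y, hyU, hy⟩ := hψ
  by_cases h1 : ψ x = 0
  · by_cases h2 : φ y = 0
    · exact ⟨x + y, U.add_mem hxU hyU, by simp [h2, hx], by simp [h1, hy]⟩
    · exact ⟨y, hyU, h2, hy⟩
  · exact ⟨x, hxU, hx, h1⟩

/-- `B` is non-degenerate on the subspace `U`. -/
def NondegOn (B : LinearMap.BilinForm K V) (U : Submodule K V) : Prop :=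
  ∀ u ∈ U, u ≠ 0 → ∃ x ∈ U, B u x ≠ 0

/-- The subgroup generated by the symplectic transvections with centre in `U`. -/
def tvGrp (B : LinearMap.BilinForm K V) (hB : B.IsAlt) (U : Submodule K V) : Subgroup (V ≃ₗ[K] V) :=
  Subgroup.closure {t | ∃ v ∈ U, ∃ c, t = stv B hB v c}

lemma stv_mem_tvGrp {U : Submodule K V} {v : V} (hv : v ∈ U) (c : K) :
    stv B hB v c ∈ tvGrp B hB U :=
  Subgroup.subset_closure ⟨v, hv, c, rfl⟩

lemma tvGrp_mono {U U' : Submodule K V} (h : U ≤ U') : tvGrp B hB U ≤ tvGrp B hB U' := by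
  apply Subgroup.closure_mono
  rintro t ⟨v, hv, c, rfl⟩
  exact ⟨v, h hv, c, rfl⟩

lemma tvGrp_le_isoGrp (U : Submodule K V) : tvGrp B hB U ≤ isoGrp B := by
  rw [tvGrp, Subgroup.closure_le]
  rintro t ⟨v, _, c, rfl⟩
  exact stv_mem_isoGrp hB v c

/-- The stabiliser of a subspace. -/
def stabGrp (U : Submodule K V) : Subgroup (V ≃ₗ[K] V) where
  carrier := {g | ∀ x, x ∈ U ↔ g x ∈ U}
  mul_mem' {a b} ha hb := by
    intro x
    rw [LinearEquiv.mul_apply]
    exact (hb x).trans (ha _)
  one_mem' := by intro x; simp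
  inv_mem' {a} ha := by
    intro x
    have h := ha (a⁻¹ x)
    simpa using h.symm

/-- The pointwise fixer of a subspace. -/
def fixGrp (S : Submodule K V) : Subgroup (V ≃ₗ[K] V) where
  carrier := {g | ∀ x ∈ S, g x = x}
  mul_mem' {a b} ha hb := by
    intro x hx
    rw [LinearEquiv.mul_apply, hb x hx, ha x hx]
  one_mem' := by intro x _; simp
  inv_mem' {a} ha := by
    intro x hx
    have h := ha x hx
    calc a⁻¹ x = a⁻¹ (a x) := by rw [h]
      _ = x := by simp

lemma stv_mem_stabGrp {U : Submodule K V} {v : V} (hv : v ∈ U) (c : K) :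
    stv B hB v c ∈ stabGrp U := by
  intro x
  rw [stv_apply]
  exact (U.add_mem_iff_left (U.smul_mem _ hv)).symm

lemma tvGrp_le_stabGrp (U : Submodule K V) : tvGrp B hB U ≤ stabGrp U := by
  rw [tvGrp, Subgroup.closure_le]
  rintro t ⟨v, hv, c, rfl⟩
  exact stv_mem_stabGrp hB hv c

lemma tvGrp_le_fixGrp {U S : Submodule K V} (h : ∀ s ∈ S, ∀ u ∈ U, B s u = 0) :
    tvGrp B hB U ≤ fixGrp S := by
  rw [tvGrp, Subgroup.closure_le]
  rintro t ⟨v, hv, c, rfl⟩
  intro s hs
  simp [h s hs v hv]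

lemma transA {U : Submodule K V} (hU : NondegOn B U) {u v : V} (hu : u ∈ U) (hv : v ∈ U)
    (hu0 : u ≠ 0) (hv0 : v ≠ 0) : ∃ h ∈ tvGrp B hB U, h u = v := by
  have key : ∀ u v : V, u ∈ U → v ∈ U → B u v ≠ 0 → ∃ h ∈ tvGrp B hB U, h u = v := by
    intro u v hu hv huv
    refine ⟨stv B hB (u - v) (B u v)⁻¹, stv_mem_tvGrp hB (U.sub_mem hu hv) _, ?_⟩
    rw [stv_apply, map_sub, hB u, zero_sub, mul_neg, inv_mul_cancel₀ huv]
    simp
  obtain ⟨z, hzU, hz1, hz2⟩ := exists_mem_ne_zero_both U (B u) (B v) (hU u hu hu0) (hU v hv hv0)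
  obtain ⟨h1, hh1, e1⟩ := key u z hu hzU hz1
  obtain ⟨h2, hh2, e2⟩ := key z v hzU hv (by rw [alt_swap hB]; simpa using hz2)
  exact ⟨h2 * h1, mul_mem hh2 hh1, by rw [LinearEquiv.mul_apply, e1, e2]⟩

lemma transB {U : Submodule K V} {e f f' : V} (he : e ∈ U) (hf : f ∈ U) (hf' : f' ∈ U)
    (h1 : B e f = 1) (h2 : B e f' = 1) : ∃ h ∈ tvGrp B hB U, h e = e ∧ h f = f' := by
  have key : ∀ f f' : V, f ∈ U → f' ∈ U → B e f = 1 → B e f' = 1 → B f f' ≠ 0 →
      ∃ h ∈ tvGrp B hB U, h e = e ∧ h f = f' := by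
    intro f f' hf hf' h1 h2 hff
    refine ⟨stv B hB (f - f') (B f f')⁻¹, stv_mem_tvGrp hB (U.sub_mem hf hf') _, ?_, ?_⟩
    · rw [stv_apply, map_sub, h1, h2]; simp
    · rw [stv_apply, map_sub, hB f, zero_sub, mul_neg, inv_mul_cancel₀ hff]
      simp
  by_cases hff : B f f' = 0
  · have hfe : B f e = -1 := by rw [alt_swap hB, h1]
    obtain ⟨a, ha, ea1, ea2⟩ := key f (f + e) hf (U.add_mem hf he) h1 (by simp [h1, hB e])
      (by simp [hB f, hfe])
    obtain ⟨b, hb, eb1, eb2⟩ := key (f + e) f' (U.add_mem hf he) hf' (by simp [h1, hB e]) h2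
      (by simp [hff, h2])
    exact ⟨b * a, mul_mem hb ha, by rw [LinearEquiv.mul_apply, ea1, eb1],
      by rw [LinearEquiv.mul_apply, ea2, eb2]⟩
  · exact key f f' hf hf' h1 h2 hff

lemma transPair {U : Submodule K V} (hU : NondegOn B U) {e f e' f' : V} (he : e ∈ U) (hf : f ∈ U)
    (he' : e' ∈ U) (hf' : f' ∈ U) (h1 : B e f = 1) (h2 : B e' f' = 1) :
    ∃ h ∈ tvGrp B hB U, h e' = e ∧ h f' = f := by
  have he0 : e ≠ 0 := by rintro rfl; simp at h1
  have he0' : e' ≠ 0 := by rintro rfl; simp at h2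
  obtain ⟨a, ha, ea⟩ := transA hB hU he' he he0' he0
  have haf : a f' ∈ U := (tvGrp_le_stabGrp hB U ha f').1 hf'
  have h3 : B e (a f') = 1 := by rw [← ea, tvGrp_le_isoGrp hB U ha, h2]
  obtain ⟨b, hb, eb1, eb2⟩ := transB hB he haf hf h3 h1
  exact ⟨b * a, mul_mem hb ha, by rw [LinearEquiv.mul_apply, ea, eb1],
    by rw [LinearEquiv.mul_apply, eb2]⟩


include hB in
lemma nondegOn_orthogonal [FiniteDimensional K V] (hnd : B.Nondegenerate) {S : Submodule K V}
    (hS : Disjoint S (B.orthogonal S)) : NondegOn B (B.orthogonal S) := by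
  intro u hu hu0
  have hc : IsCompl S (B.orthogonal S) :=
    (LinearMap.BilinForm.isCompl_orthogonal_iff_disjoint hB.isRefl).2 hS
  have : ∃ y, B u y ≠ 0 := by
    by_contra hcon
    push Not at hcon
    exact hu0 (hnd.1 u hcon)
  obtain ⟨y, hy⟩ := this
  have hy' : y ∈ S ⊔ B.orthogonal S := by rw [hc.sup_eq_top]; trivial
  obtain ⟨s, hs, x, hx, rfl⟩ := Submodule.mem_sup.1 hy'
  refine ⟨x, hx, ?_⟩
  have h0 : B u s = 0 := by
    rw [alt_swap hB]
    simpa using (LinearMap.BilinForm.mem_orthogonal_iff.1 hu s hs)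
  simpa [h0] using hy

theorem mem_tvGrp_of_fix [FiniteDimensional K V] (hnd : B.Nondegenerate) (S : Submodule K V) :
    Disjoint S (B.orthogonal S) → ∀ g ∈ isoGrp B, (∀ s ∈ S, g s = s) →
      g ∈ tvGrp B hB (B.orthogonal S) := by
  induction S using WellFoundedGT.induction with
  | ind S ih =>
  intro hS g hg hfix
  have hc : IsCompl S (B.orthogonal S) :=
    (LinearMap.BilinForm.isCompl_orthogonal_iff_disjoint hB.isRefl).2 hS
  by_cases hbot : B.orthogonal S = ⊥
  · have htop : S = ⊤ := by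
      have := hc.sup_eq_top
      rwa [hbot, sup_bot_eq] at this
    have : g = 1 := by
      ext x
      exact hfix x (by rw [htop]; trivial)
    rw [this]; exact one_mem _
  · obtain ⟨e, he, he0⟩ := Submodule.exists_mem_ne_zero_of_ne_bot hbot
    have hU := nondegOn_orthogonal hB hnd hS
    obtain ⟨f₀, hf₀, hef₀⟩ := hU e he he0
    set f := (B e f₀)⁻¹ • f₀ with hfdef
    have hf : f ∈ B.orthogonal S := Submodule.smul_mem _ _ hf₀
    have hef : B e f = 1 := by simp [hfdef, hef₀]
    have hmem : ∀ x ∈ B.orthogonal S, g x ∈ B.orthogonal S := by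
      intro x hx
      rw [LinearMap.BilinForm.mem_orthogonal_iff]
      intro s hs
      have := LinearMap.BilinForm.mem_orthogonal_iff.1 hx s hs
      rw [← hfix s hs, hg, this]
    obtain ⟨h, hh, h1, h2⟩ := transPair hB hU he hf (hmem e he) (hmem f hf) hef
      (by rw [hg, hef])
    have hperp : ∀ s ∈ S, ∀ u ∈ B.orthogonal S, B s u = 0 := fun s hs u hu =>
      LinearMap.BilinForm.mem_orthogonal_iff.1 hu s hs
    have hhfix := tvGrp_le_fixGrp hB hperp hh
    set S' := S ⊔ Submodule.span K {e, f} with hS'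
    have hlt : S < S' := by
      refine lt_of_le_of_ne le_sup_left ?_
      intro heq
      have heS : e ∈ S := by
        rw [heq]
        exact Submodule.mem_sup_right (Submodule.subset_span (by simp))
      exact he0 ((Submodule.disjoint_def.1 hS) e heS he)
    have hfix' : ∀ s ∈ S', (h * g) s = s := by
      have hle : S' ≤ LinearMap.eqLocus ((h * g : V ≃ₗ[K] V) : V →ₗ[K] V) LinearMap.id := by
        rw [hS']
        refine sup_le ?_ ?_
        · intro s hs
          simp only [LinearMap.mem_eqLocus, LinearEquiv.coe_coe, LinearEquiv.mul_apply,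
            LinearMap.id_coe, id_eq]
          rw [hfix s hs, hhfix s hs]
        · rw [Submodule.span_le]
          intro x hx
          simp only [Set.mem_insert_iff, Set.mem_singleton_iff] at hx
          simp only [SetLike.mem_coe, LinearMap.mem_eqLocus, LinearEquiv.coe_coe,
            LinearEquiv.mul_apply, LinearMap.id_coe, id_eq]
          rcases hx with rfl | rfl
          · exact h1
          · exact h2
      intro s hs
      simpa using hle hs
    have hdis : Disjoint S' (B.orthogonal S') := by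
      rw [Submodule.disjoint_def]
      intro x hx hx'
      obtain ⟨s, hs, y, hy, rfl⟩ := Submodule.mem_sup.1 hx
      obtain ⟨a, b, rfl⟩ := Submodule.mem_span_pair.1 hy
      have hes : B e s = 0 := by rw [alt_swap hB, hperp s hs e he, neg_zero]
      have hfs : B f s = 0 := by rw [alt_swap hB, hperp s hs f hf, neg_zero]
      have hfe : B f e = -1 := by rw [alt_swap hB, hef]
      have e1 := LinearMap.BilinForm.mem_orthogonal_iff.1 hx' e
        (Submodule.mem_sup_right (Submodule.subset_span (by simp)))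
      have e2 := LinearMap.BilinForm.mem_orthogonal_iff.1 hx' f
        (Submodule.mem_sup_right (Submodule.subset_span (by simp)))
      simp only [map_add, map_smul, smul_eq_mul, hes, hfs, hB e, hB f, hef, hfe] at e1 e2
      have hb : b = 0 := by simpa using e1
      have ha : a = 0 := by simpa using e2
      subst ha hb
      have hs' : s ∈ B.orthogonal S := by
        have := LinearMap.BilinForm.orthogonal_le (B := B) (le_sup_left : S ≤ S') hx'
        simpa using this
      simp [(Submodule.disjoint_def.1 hS) s hs hs']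
    have hmain := ih S' hlt hdis (h * g) (mul_mem (tvGrp_le_isoGrp hB _ hh) hg) hfix'
    have hmain' := tvGrp_mono hB (LinearMap.BilinForm.orthogonal_le (B := B)
      (le_sup_left : S ≤ S')) hmain
    have : g = h⁻¹ * (h * g) := by group
    rw [this]
    exact mul_mem (inv_mem hh) hmain'

/-- The symplectic group is generated by the symplectic transvections. -/
theorem isoGrp_le_of_stv_mem [FiniteDimensional K V] (hnd : B.Nondegenerate)
    (M : Subgroup (V ≃ₗ[K] V)) (hM : ∀ v c, stv B hB v c ∈ M) : isoGrp B ≤ M := by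
  intro g hg
  have h := mem_tvGrp_of_fix hB hnd ⊥ (by simp) g hg (by simp)
  have hle : tvGrp B hB (B.orthogonal ⊥) ≤ M := by
    rw [tvGrp, Subgroup.closure_le]
    rintro t ⟨v, _, c, rfl⟩
    exact hM v c
  exact hle h

end Cfsg.Agent.Lib.Helper95
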