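import Cfsg.Prelude.Def_GeometricClasses
import Cfsg.Agent.Lib.Helper95.Symp

set_option autoImplicit false

namespace Cfsg.Agent.Lib.Helper95

open Matrix Module

variable {ι : Type} [Fintype ι] [DecidableEq ι] {F : Type*} [Field F]

/-- `GL ι F` as the group of linear automorphisms of `ι → F`. -/
noncomputable def glEquiv : Matrix.GeneralLinearGroup ι F ≃* ((ι → F) ≃ₗ[F] (ι → F)) :=
  Matrix.GeneralLinearGroup.toLin.trans (LinearMap.GeneralLinearGroup.generalLinearEquiv F (ι → F))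

@[simp] lemma glEquiv_apply (g : Matrix.GeneralLinearGroup ι F) (x : ι → F) :
    glEquiv g x = (g : Matrix ι ι F) *ᵥ x := by
  simp [glEquiv]

lemma glEquiv_symm_mulVec (e : (ι → F) ≃ₗ[F] (ι → F)) (x : ι → F) :
    ((glEquiv.symm e : Matrix.GeneralLinearGroup ι F) : Matrix ι ι F) *ᵥ x = e x := by
  rw [← glEquiv_apply, MulEquiv.apply_symm_apply]

lemma isMaximalIn_of {G : Type*} [Group G] {K H : Subgroup G} (hle : H ≤ K)
    (hne : ∃ g ∈ K, g ∉ H)
    (hmax : ∀ M : Subgroup G, H ≤ M → M ≤ K → ∀ g ∈ M, g ∉ H → K ≤ M) :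
    Cfsg.Geo.IsMaximalIn K H := by
  refine ⟨lt_of_le_of_ne hle ?_, fun M h1 h2 => ?_⟩
  · rintro rfl
    obtain ⟨g, hg, hg'⟩ := hne
    exact hg' hg
  · by_cases h : M ≤ H
    · exact Or.inl (le_antisymm h h1)
    · obtain ⟨g, hg, hg'⟩ := SetLike.not_le_iff_exists.1 h
      exact Or.inr (le_antisymm h2 (hmax M h1 h2 g hg hg'))

lemma mem_subspaceStabilizer_iff (W : Submodule F (ι → F)) (g : Matrix.GeneralLinearGroup ι F) :
    g ∈ Cfsg.Geo.subspaceStabilizer W ↔ glEquiv g ∈ stabGrp W := by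
  simp only [stabGrp, Subgroup.mem_mk]
  rfl

/-- The standard symplectic form as a bilinear form. -/
noncomputable def sympB (m : ℕ) (F : Type*) [Field F] : LinearMap.BilinForm F (Fin m ⊕ Fin m → F) :=
  Matrix.toBilin' (Matrix.J (Fin m) F)

lemma sympB_apply (m : ℕ) (u v : Fin m ⊕ Fin m → F) : sympB m F u v = Cfsg.sympForm m F u v := by
  simp [sympB, Cfsg.sympForm, Matrix.toBilin'_apply']

lemma sympForm_eq (m : ℕ) (u v : Fin m ⊕ Fin m → F) :
    Cfsg.sympForm m F u v = ∑ i, (u (.inr i) * v (.inl i) - u (.inl i) * v (.inr i)) := by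
  simp [Cfsg.sympForm, Matrix.J, dotProduct, Matrix.mulVec, Matrix.fromBlocks,
    Fintype.sum_sum_type, Matrix.one_apply, Finset.sum_sub_distrib]
  ring

lemma sympB_isAlt (m : ℕ) : (sympB m F).IsAlt := by
  intro x
  change sympB m F x x = 0
  rw [sympB_apply, sympForm_eq]
  apply Finset.sum_eq_zero
  intro i _
  ring

lemma sympB_nondegenerate (m : ℕ) : (sympB m F).Nondegenerate :=
  Matrix.Nondegenerate.toBilin' (Matrix.nondegenerate_of_det_ne_zero (Matrix.isUnit_det_J _ _).ne_zero)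

lemma mem_spGL_iff (m : ℕ) (g : Matrix.GeneralLinearGroup (Fin m ⊕ Fin m) F) :
    g ∈ Cfsg.spGL m F ↔ glEquiv g ∈ isoGrp (sympB m F) := by
  simp only [mem_isoGrp, sympB_apply, glEquiv_apply]
  rfl


/-- Transfer of a subgroup of `GL ι F` to linear automorphisms. -/
noncomputable def toLinGrp (M : Subgroup (Matrix.GeneralLinearGroup ι F)) :
    Subgroup ((ι → F) ≃ₗ[F] (ι → F)) :=
  M.comap (glEquiv (ι := ι) (F := F)).symm.toMonoidHom

lemma mem_toLinGrp {M : Subgroup (Matrix.GeneralLinearGroup ι F)} {e : (ι → F) ≃ₗ[F] (ι → F)} :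
    e ∈ toLinGrp M ↔ glEquiv.symm e ∈ M := Iff.rfl

lemma glEquiv_mem_toLinGrp {M : Subgroup (Matrix.GeneralLinearGroup ι F)}
    {g : Matrix.GeneralLinearGroup ι F} : glEquiv g ∈ toLinGrp M ↔ g ∈ M := by
  rw [mem_toLinGrp, MulEquiv.symm_apply_apply]

lemma finrank_sum_fin (m : ℕ) : finrank F (Fin m ⊕ Fin m → F) = 2 * m := by
  simp; ring

end Cfsg.Agent.Lib.Helper95
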