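import Cfsg.Agent.Lib.Helper95.Herm

set_option autoImplicit false
set_option linter.unusedSimpArgs false

namespace Cfsg.Agent.Lib.Helper95

open Module

namespace HForm

variable {K V : Type*} [Field K] [AddCommGroup V] [Module K V] {σ : K ≃+* K} {f : V → V → K}
variable (hf : HForm σ f) (M : Subgroup (V ≃ₗ[K] V))

/-- The transvection with direction `u` and axis vector `w` lies in `M`. -/
def TT (u w : V) : Prop := ∀ h : f u w = 0, hf.tv u w h ∈ M

/-- All scalar multiples. -/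
def PP (u w : V) : Prop := ∀ c : K, hf.TT M u (c • w)

/-- All transvections with direction `u` lie in `M`. -/
def Good (u : V) : Prop := ∀ w : V, hf.TT M u w

variable {M}

lemma TT_add {u w w' : V} (h : f u w = 0) (h' : f u w' = 0) (hw : hf.TT M u w) (hw' : hf.TT M u w') :
    hf.TT M u (w + w') := by
  intro h2
  have := mul_mem (hw h) (hw' h')
  rwa [tv_add_right] at this

lemma TT_neg {u w : V} (hw : hf.TT M u w) : hf.TT M u (-w) := by
  intro h2
  have h : f u w = 0 := by rw [hf.neg_right] at h2; simpa using h2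
  have := inv_mem (hw h)
  rwa [tv_inv] at this

lemma PP_add {u w w' : V} (h : f u w = 0) (h' : f u w' = 0) (hw : hf.PP M u w) (hw' : hf.PP M u w') :
    hf.PP M u (w + w') := by
  intro c
  rw [smul_add]
  exact hf.TT_add (by rw [hf.smul_right, h, mul_zero]) (by rw [hf.smul_right, h', mul_zero])
    (hw c) (hw' c)

lemma PP_neg {u w : V} (hw : hf.PP M u w) : hf.PP M u (-w) := by
  intro c
  rw [smul_neg]
  exact hf.TT_neg (hw c)

lemma TT_comm {u w u' w' : V} (h : f u w = 0) (h' : f u' w' = 0) (h'' : f u w' = 0)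
    (hw : hf.TT M u w) (hw' : hf.TT M u' w') : hf.TT M u (σ (f u' w) • w') := by
  intro h2
  have h1 := hw h
  have h3 := hw' h'
  have := mul_mem (mul_mem (mul_mem h1 h3) (inv_mem h1)) (inv_mem h3)
  rwa [tv_comm _ _ _ _ _ _ _ h''] at this

variable (hM : ∀ (v : V) (c : K), f v v = 0 → σ c = -c → hf.TT M v (c • v))
include hM

lemma TT_step {u x y : V} {l c : K} (hux : f u x = 0) (huy : f u y = 0) (hy : f y y = 0)
    (hc : σ c = -c) (h : hf.TT M u (l • x)) : hf.TT M u ((l * f x y * c) • y) := by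
  have := hf.TT_comm (u := u) (w := l • x) (u' := y) (w' := c • y)
    (by rw [hf.smul_right, hux, mul_zero]) (by rw [hf.smul_right, hy, mul_zero])
    (by rw [hf.smul_right, huy, mul_zero]) h (hM y c hy hc)
  rw [hf.smul_right, map_mul, hf.invol, ← hf.herm x y, smul_smul] at this
  exact this

lemma PP_of_TT [FiniteDimensional K V] (hdim : 7 ≤ finrank K V) {u x w₀ : V} {l : K}
    (hx : f x x = 0) (hux : f u x = 0) (huw : f u w₀ = 0) (hxw : f x w₀ ≠ 0) (hl : l ≠ 0)
    (h : hf.TT M u (l • x)) : hf.PP M u x := by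
  obtain ⟨κ, hκ0, hκ⟩ := exists_kappa hf.ne_id hf.invol
  have hκi : σ κ⁻¹ = -κ⁻¹ := by rw [map_inv₀, hκ, inv_neg]
  -- the partner `y`
  obtain ⟨t, hy⟩ := hf.exists_iso_adjust hx hxw
  set y := w₀ + t • x with hydef
  have huy : f u y = 0 := by rw [hydef, hf.add_right, hf.smul_right, huw, hux]; ring
  have hxy : f x y ≠ 0 := by
    rw [hydef, hf.add_right, hf.smul_right, hx, mul_zero, add_zero]; exact hxw
  set b := f x y with hb
  have hyx : f y x = σ b := hf.herm y x
  -- the anisotropic `z`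
  obtain ⟨z, hz, hzz⟩ := hf.exists_perp_aniso ![u, x, y] (by omega)
  have hzu : f z u = 0 := hz 0
  have hzx : f z x = 0 := hz 1
  have hzy : f z y = 0 := hz 2
  have huz : f u z = 0 := hf.eq_zero_comm.1 hzu
  have hxz : f x z = 0 := hf.eq_zero_comm.1 hzx
  have hyz : f y z = 0 := hf.eq_zero_comm.1 hzy
  obtain ⟨α, hα⟩ := exists_trace_eq hf.ne_id hf.invol hxy (a := - f z z)
    (by rw [map_neg, hf.self_fixed])
  set x₂ := α • x + y + z with hx₂
  have hx₂x₂ : f x₂ x₂ = 0 := by
    simp only [hx₂, hf.add_left, hf.add_right, hf.smul_left, hf.smul_right, hx, hy, hzx, hzy, hxz,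
      hyz, hyx, ← hb]
    rw [map_mul] at hα
    linear_combination hα
  have hux₂ : f u x₂ = 0 := by
    simp only [hx₂, hf.add_right, hf.smul_right, hux, huy, huz]; ring
  have hyx₂ : f y x₂ = σ (α * b) := by
    simp only [hx₂, hf.add_right, hf.smul_right, hy, hyz, hyx, map_mul]; ring
  have hx₂x : f x₂ x = σ b := by
    simp only [hx₂, hf.add_left, hf.smul_left, hx, hzx, hyx]; ring
  set ν := b * σ b with hν
  have hν0 : ν ≠ 0 := mul_ne_zero hxy (by rwa [map_ne_zero])
  have hνf : σ ν = ν := by rw [hν, map_mul, hf.invol, mul_comm]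
  set μ := κ * σ (α * b) with hμ
  have hμf : σ μ ≠ μ := by
    intro h0
    rw [hμ, map_mul, hf.invol, hκ] at h0
    apply hzz
    have : κ * (α * b + σ (α * b)) = 0 := by linear_combination -h0
    rcases mul_eq_zero.1 this with h1 | h1
    · exact absurd h1 hκ0
    · rw [hα] at h1; simpa using h1
  -- first family
  have hy1 : hf.TT M u ((l * b * κ) • y) := hf.TT_step hM hux huy hy hκ h
  have F1 : ∀ s, σ s = s → hf.TT M u ((l * s) • x) := by
    intro s hs
    have hc : σ (s * ν⁻¹ * κ⁻¹) = -(s * ν⁻¹ * κ⁻¹) := by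
      rw [map_mul, map_mul, hs, map_inv₀, hνf, hκi]; ring
    have := hf.TT_step hM huy hux hx hc hy1
    have e : l * b * κ * f y x * (s * ν⁻¹ * κ⁻¹) = l * s := by
      rw [hyx]
      have : b * σ b = ν := rfl
      field_simp
      linear_combination (-(l * s)) * this
    rwa [e] at this
  have F2 : ∀ s, σ s = s → hf.TT M u ((l * (s * μ)) • x) := by
    intro s hs
    have hc : σ (s * ν⁻¹ * κ⁻¹) = -(s * ν⁻¹ * κ⁻¹) := by
      rw [map_mul, map_mul, hs, map_inv₀, hνf, hκi]; ring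
    have h1 := hf.TT_step hM huy hux₂ hx₂x₂ hc hy1
    have h2 := hf.TT_step hM hux₂ hux hx hκ h1
    have e : l * b * κ * f y x₂ * (s * ν⁻¹ * κ⁻¹) * f x₂ x * κ = l * (s * μ) := by
      rw [hyx₂, hx₂x, hμ]
      have : b * σ b = ν := rfl
      field_simp
      linear_combination (-(l * s * κ * σ (α * b))) * this
    rwa [e] at h2
  intro c
  obtain ⟨s, s', hs, hs', e⟩ := exists_decomp_fixed hf.invol hμf (c / l)
  have := hf.TT_add (by rw [hf.smul_right, hux, mul_zero]) (by rw [hf.smul_right, hux, mul_zero])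
    (F1 s hs) (F2 s' hs')
  rw [← add_smul, ← mul_add, ← e, mul_div_cancel₀ _ hl] at this
  exact this

lemma PP_step {u x y : V} (hux : f u x = 0) (huy : f u y = 0) (hy : f y y = 0) (hxy : f x y ≠ 0)
    (h : hf.PP M u x) : hf.PP M u y := by
  obtain ⟨κ, hκ0, hκ⟩ := exists_kappa hf.ne_id hf.invol
  intro c
  have := hf.TT_step hM hux huy hy hκ (h (c / (f x y * κ)))
  have e : c / (f x y * κ) * f x y * κ = c := by field_simp
  rwa [e] at this

variable (hN : ∀ a, σ a = a → ∃ l, l * σ l = a)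
include hN

lemma good_of_TT [FiniteDimensional K V] (hdim : 7 ≤ finrank K V) {u w : V} (huw : f u w = 0)
    (hw : hf.TT M u w) (hws : w ∉ Submodule.span K {u}) : hf.Good M u := by
  obtain ⟨κ, hκ0, hκ⟩ := exists_kappa hf.ne_id hf.invol
  -- isotropic vectors of `u^⊥` not orthogonal to `w`
  have key : ∀ x, f x x = 0 → f u x = 0 → f x w ≠ 0 → hf.PP M u x := by
    intro x hx hux hxw
    have h1 := hf.TT_comm (u := u) (w := w) (u' := x) (w' := κ • x) huw
      (by rw [hf.smul_right, hx, mul_zero]) (by rw [hf.smul_right, hux, mul_zero]) hw (hM x κ hx hκ)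
    rw [smul_smul] at h1
    exact hf.PP_of_TT hM hdim hx hux huw hxw
      (mul_ne_zero (by rwa [map_ne_zero]) hκ0) h1
  have hex : ∃ v₀, f v₀ u = 0 ∧ f v₀ w ≠ 0 := by
    by_contra hcon
    push Not at hcon
    apply hws
    have := hf.mem_span_of_perp ![u] (w := w) (fun z hz => hcon z (hz 0))
    simpa using this
  obtain ⟨v₀, hv₀u, hv₀w⟩ := hex
  have hex2 : ∃ x₀, f x₀ x₀ = 0 ∧ f u x₀ = 0 ∧ f x₀ w ≠ 0 := by
    obtain ⟨e₁, e₂, h1, h2, h3, h4, e⟩ := hf.exists_iso_decomp hN ![u] (by omega) v₀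
      (fun i => by fin_cases i; exact hv₀u)
    by_cases h5 : f e₁ w = 0
    · refine ⟨e₂, h2, hf.eq_zero_comm.1 (h4 0), ?_⟩
      intro h6
      apply hv₀w
      rw [e, hf.add_left, h5, h6, add_zero]
    · exact ⟨e₁, h1, hf.eq_zero_comm.1 (h3 0), h5⟩
  obtain ⟨x₀, hx₀, hux₀, hx₀w⟩ := hex2
  have hPx₀ := key x₀ hx₀ hux₀ hx₀w
  have hiso : ∀ y, f y y = 0 → f u y = 0 → hf.PP M u y := by
    intro y hy huy
    by_cases hyw : f y w = 0
    · by_cases hxy : f x₀ y = 0
      · have h1 : hf.PP M u (x₀ + y) := by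
          apply key
          · rw [hf.add_left, hf.add_right, hf.add_right, hx₀, hy, hxy, hf.eq_zero_comm.1 hxy]
            ring
          · rw [hf.add_right, hux₀, huy, add_zero]
          · rw [hf.add_left, hyw, add_zero]; exact hx₀w
        have h2 := hf.PP_add (by rw [hf.add_right, hux₀, huy, add_zero])
          (by rw [hf.neg_right, hux₀, neg_zero]) h1 (hf.PP_neg hPx₀)
        have e : x₀ + y + -x₀ = y := by abel
        rwa [e] at h2
      · exact hf.PP_step hM hux₀ huy hy hxy hPx₀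
    · exact key y hy huy hyw
  intro w' hw'
  obtain ⟨e₁, e₂, h1, h2, h3, h4, e⟩ := hf.exists_iso_decomp hN ![u] (by omega) w'
    (fun i => by fin_cases i; exact hf.eq_zero_comm.1 hw')
  have hu1 : f u e₁ = 0 := hf.eq_zero_comm.1 (h3 0)
  have hu2 : f u e₂ = 0 := hf.eq_zero_comm.1 (h4 0)
  have h5 := hf.TT_add (by rw [hf.smul_right, hu1, mul_zero]) (by rw [hf.smul_right, hu2, mul_zero])
    (hiso e₁ h1 hu1 1) (hiso e₂ h2 hu2 1)
  rw [one_smul, one_smul, ← e] at h5
  exact h5 hw'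

lemma good_step [FiniteDimensional K V] (hdim : 7 ≤ finrank K V) {u v : V} (hu : hf.Good M u)
    (hv : f v v = 0) (huv : f u v ≠ 0) : hf.Good M v := by
  obtain ⟨κ, hκ0, hκ⟩ := exists_kappa hf.ne_id hf.invol
  obtain ⟨w', hw0, hw'⟩ := hf.exists_perp ![u, v] (by omega)
  have hw'u : f w' u = 0 := hw' 0
  have hw'v : f w' v = 0 := hw' 1
  have huw' : f u w' = 0 := hf.eq_zero_comm.1 hw'u
  have hvw' : f v w' = 0 := hf.eq_zero_comm.1 hw'v
  have h1 := hf.TT_comm (u := v) (w := κ • v) (u' := u) (w' := w')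
    (by rw [hf.smul_right, hv, mul_zero]) huw' hvw' (hM v κ hv hκ) (hu w')
  have hc : σ (f u (κ • v)) ≠ 0 := by
    rw [map_ne_zero, hf.smul_right]
    exact mul_ne_zero (by rwa [map_ne_zero]) huv
  refine hf.good_of_TT hM hN hdim (by rw [hf.smul_right, hvw', mul_zero]) h1 ?_
  intro hmem
  obtain ⟨a, ha⟩ := Submodule.mem_span_singleton.1 hmem
  have h2 : f (a • v) u = 0 := by rw [ha, hf.smul_left, hw'u, mul_zero]
  rw [hf.smul_left] at h2
  rcases mul_eq_zero.1 h2 with h3 | h3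
  · rw [h3, zero_smul] at ha
    rcases smul_eq_zero.1 ha.symm with h4 | h4
    · exact hc h4
    · exact hw0 h4
  · exact huv (hf.eq_zero_comm.1 h3)

omit hM in
include hf in
/-- A linear automorphism which maps `v^⊥` to `(g v)^⊥` for isotropic `v` is a similitude. -/
lemma sim_of_forall [FiniteDimensional K V] (hdim : 7 ≤ finrank K V) (g : V ≃ₗ[K] V)
    (h : ∀ v, f v v = 0 → ∃ l : K, ∀ y, f y v = l * f (g y) (g v)) :
    ∃ c : K, c ≠ 0 ∧ ∀ x y, f (g x) (g y) = c * f x y := by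
  choose! l hl using h
  have hl0 : ∀ v, f v v = 0 → v ≠ 0 → l v ≠ 0 := by
    intro v hv hv0 h0
    obtain ⟨y, hy⟩ := hf.nondeg v hv0
    apply hy
    rw [hl v hv y, h0, zero_mul]
  have hadj : ∀ v v', f v v = 0 → f v' v' = 0 → f v v' ≠ 0 → l v' = σ (l v) := by
    intro v v' hv hv' hvv
    have h1 := hl v' hv' v
    have h2 := hl v hv v'
    have h3 : f v v' = σ (l v) * f (g v) (g v') := by
      rw [hf.herm v v', h2, map_mul, ← hf.herm]
    have h4 : f (g v) (g v') ≠ 0 := by
      intro h0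
      rw [h0, mul_zero] at h1
      exact hvv h1
    have h5 : (l v' - σ (l v)) * f (g v) (g v') = 0 := by linear_combination h3 - h1
    rcases mul_eq_zero.1 h5 with h | h
    · exact sub_eq_zero.1 h
    · exact absurd h h4
  have horth : ∀ v v', f v v = 0 → f v' v' = 0 → v ≠ 0 → v' ≠ 0 → f v v' = 0 → l v = l v' := by
    intro v v' hv hv' hv0 hv'0 _
    obtain ⟨z, hz, h1, h2⟩ := hf.exists_iso_both hv0 hv'0 hv'
    have e1 := hadj v z hv hz h1
    have e2 := hadj v' z hv' hz h2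
    have : σ (l v) = σ (l v') := by rw [← e1, ← e2]
    exact σ.injective this
  have hconst : ∀ v v', f v v = 0 → f v' v' = 0 → v ≠ 0 → v' ≠ 0 → l v = l v' := by
    intro v v' hv hv' hv0 hv'0
    by_cases hvv : f v v' = 0
    · exact horth v v' hv hv' hv0 hv'0 hvv
    · obtain ⟨z, hz0, hz, hzp⟩ := hf.exists_iso_perp hN ![v, v'] (by omega)
      have h1 : f z v = 0 := hzp 0
      have h2 : f z v' = 0 := hzp 1
      rw [horth v z hv hz hv0 hz0 (hf.eq_zero_comm.1 h1), horth z v' hz hv' hz0 hv'0 h2]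
  obtain ⟨v₀, hv₀0, hv₀, -⟩ := hf.exists_iso_perp hN (k := 0) (fun i => i.elim0) (by omega)
  have hall : ∀ y v, f y v = l v₀ * f (g y) (g v) := by
    intro y v
    have hi : ∀ e, f e e = 0 → f y e = l v₀ * f (g y) (g e) := by
      intro e he
      by_cases he0 : e = 0
      · subst he0; simp [hf.zero_right]
      · rw [hl e he y, hconst e v₀ he hv₀ he0 hv₀0]
    obtain ⟨e₁, e₂, h1, h2, -, -, e⟩ := hf.exists_iso_decomp hN (k := 0) (fun i => i.elim0)
      (by omega) v (fun i => i.elim0)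
    rw [e, hf.add_right, map_add, hf.add_right, hi e₁ h1, hi e₂ h2]
    ring
  refine ⟨(l v₀)⁻¹, inv_ne_zero (hl0 v₀ hv₀ hv₀0), fun x y => ?_⟩
  rw [hall x y, ← mul_assoc, inv_mul_cancel₀ (hl0 v₀ hv₀ hv₀0), one_mul]

/-- A subgroup containing the unitary transvections and an element that is not a similitude
contains all transvections. -/
theorem transvection_mem_of_not_sim [FiniteDimensional K V] (hdim : 7 ≤ finrank K V)
    {g : V ≃ₗ[K] V} (hgM : g ∈ M)
    (hg : ¬ ∃ c : K, c ≠ 0 ∧ ∀ x y, f (g x) (g y) = c * f x y)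
    (φ : Module.Dual K V) (v : V) (hφv : φ v = 0) : LinearEquiv.transvection hφv ∈ M := by
  obtain ⟨κ, hκ0, hκ⟩ := exists_kappa hf.ne_id hf.invol
  -- a first good vector
  have h0 : ∃ u, u ≠ 0 ∧ hf.Good M u := by
    have h1 : ¬ ∀ v, f v v = 0 → ∃ l : K, ∀ y, f y v = l * f (g y) (g v) :=
      fun h => hg (hf.sim_of_forall hN hdim g h)
    push Not at h1
    obtain ⟨v, hv, hvl⟩ := h1
    obtain ⟨w, hw⟩ := hf.exists_repr ((hf.dual (κ • v)).comp (g.symm : V →ₗ[K] V))
    have hw' : ∀ x, f x w = f (g.symm x) (κ • v) := fun x => by rw [hw]; rfl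
    have hvv : f v (κ • v) = 0 := by rw [hf.smul_right, hv, mul_zero]
    have huw : f (g v) w = 0 := by rw [hw']; simpa using hvv
    have hT : hf.TT M (g v) w := by
      intro h
      have h2 : g * hf.tv v (κ • v) hvv * g⁻¹ ∈ M :=
        mul_mem (mul_mem hgM (hM v κ hv hκ hvv)) (inv_mem hgM)
      rwa [hf.conj_tv g v (κ • v) w hvv hw'] at h2
    have hv0 : v ≠ 0 := by
      rintro rfl
      obtain ⟨y, hy⟩ := hvl 0
      simp [hf.zero_right] at hy
    refine ⟨g v, by simpa using hv0, hf.good_of_TT hM hN hdim huw hT ?_⟩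
    intro hmem
    obtain ⟨a, ha⟩ := Submodule.mem_span_singleton.1 hmem
    obtain ⟨y, hy⟩ := hvl (σ a / σ κ)
    apply hy
    have := hw' (g y)
    rw [← ha, hf.smul_right, hf.smul_right, LinearEquiv.symm_apply_apply] at this
    have hσκ : σ κ ≠ 0 := by rwa [map_ne_zero]
    field_simp
    linear_combination -this
  obtain ⟨u, hu0, hu⟩ := h0
  have hgood : ∀ e, f e e = 0 → hf.Good M e := by
    intro e he
    by_cases he0 : e = 0
    · subst he0
      intro w h
      rw [tv_zero_left]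
      exact one_mem _
    · obtain ⟨z, hz, h1, h2⟩ := hf.exists_iso_both hu0 he0 he
      exact hf.good_step hM hN hdim (hf.good_step hM hN hdim hu hz h1) he (hf.ne_zero_comm.1 h2)
  obtain ⟨w, hw⟩ := hf.exists_repr φ
  have hvw : f v w = 0 := by rw [hw, hφv]
  obtain ⟨e₁, e₂, h1, h2, h3, h4, e⟩ := hf.exists_iso_decomp hN ![w] (by omega) v
    (fun i => by fin_cases i; exact hvw)
  have h3' : f e₁ w = 0 := h3 0
  have h4' : f e₂ w = 0 := h4 0
  have h5 := mul_mem (hgood e₁ h1 w h3') (hgood e₂ h2 w h4')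
  rw [tv_add_left] at h5
  have e' : hf.tv (e₁ + e₂) w (by rw [hf.add_left, h3', h4', add_zero]) =
      LinearEquiv.transvection hφv := by
    ext x
    rw [tv_apply, LinearEquiv.transvection.apply, hw, e]
  rwa [e'] at h5

omit hM in
include hf in
lemma exists_tv_not_sim [FiniteDimensional K V] (hdim : 7 ≤ finrank K V) :
    ∃ (u w : V) (h : f u w = 0),
      ¬ ∃ c : K, ∀ x y, f (hf.tv u w h x) (hf.tv u w h y) = c * f x y := by
  obtain ⟨u, hu0, hu, -⟩ := hf.exists_iso_perp hN (k := 0) (fun i => i.elim0) (by omega)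
  obtain ⟨y₀, hy₀⟩ := hf.nondeg' hu0
  obtain ⟨w, hw0, hw⟩ := hf.exists_perp ![u, y₀] (by omega)
  have hwu : f w u = 0 := hw 0
  have hwy : f w y₀ = 0 := hw 1
  have huw : f u w = 0 := hf.eq_zero_comm.1 hwu
  have hyw : f y₀ w = 0 := hf.eq_zero_comm.1 hwy
  refine ⟨u, w, huw, ?_⟩
  rintro ⟨c, hc⟩
  have hyu : f y₀ u ≠ 0 := hf.ne_zero_comm.1 hy₀
  have h1 := hc y₀ u
  simp only [tv_apply, hf.add_left, hf.add_right, hf.smul_left, hf.smul_right, huw, hyw, hu,
    map_zero] at h1
  have hc1 : c = 1 := by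
    have : (c - 1) * f y₀ u = 0 := by linear_combination -h1
    rcases mul_eq_zero.1 this with h | h
    · exact sub_eq_zero.1 h
    · exact absurd h hyu
  apply hw0
  by_contra hw0'
  obtain ⟨x, hx⟩ := hf.nondeg w hw0'
  have h2 := hc x y₀
  simp only [tv_apply, hf.add_left, hf.add_right, hf.smul_left, hf.smul_right, huw, hyw, hu, hc1]
    at h2
  have : f x w * f u y₀ = 0 := by
    simp only [map_zero] at h2
    linear_combination h2
  rcases mul_eq_zero.1 this with h | h
  · exact hx h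
  · exact hy₀ h

end HForm

end Cfsg.Agent.Lib.Helper95
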