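import Cfsg.Agent.Lib.Helper95.Symp

set_option autoImplicit false

namespace Cfsg.Agent.Lib.Helper95

open LinearMap Module

variable {K V : Type*} [Field K] [AddCommGroup V] [Module K V]
variable {B : LinearMap.BilinForm K V} (hB : B.IsAlt)

/-- The vectors all of whose symplectic transvections lie in `M`. -/
def tvSet (B : LinearMap.BilinForm K V) (hB : B.IsAlt) (M : Subgroup (V ≃ₗ[K] V)) : Set V :=
  {v | ∀ c, stv B hB v c ∈ M}

variable {M : Subgroup (V ≃ₗ[K] V)}

lemma zero_mem_tvSet : (0 : V) ∈ tvSet B hB M := by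
  intro c; rw [stv_zero_left]; exact one_mem _

lemma tvSet_map {m : V ≃ₗ[K] V} (hm : m ∈ M) (hm' : m ∈ isoGrp B) {v : V}
    (hv : v ∈ tvSet B hB M) : m v ∈ tvSet B hB M := by
  intro c
  rw [← conj_stv hB hm']
  exact mul_mem (mul_mem hm (hv c)) (inv_mem hm)

lemma tvSet_smul {v : V} (hv : v ∈ tvSet B hB M) (a : K) : a • v ∈ tvSet B hB M := by
  intro c
  rw [stv_smul]
  exact hv _

lemma tvSet_add {u v : V} (hu : u ∈ tvSet B hB M) (hv : v ∈ tvSet B hB M) (huv : B u v ≠ 0)
    (a : K) : u + a • v ∈ tvSet B hB M := by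
  have h := tvSet_map hB (hv (a / B u v)) (stv_mem_isoGrp hB v _) hu
  rwa [stv_apply, div_mul_cancel₀ _ huv] at h

lemma mem_stabGrp_of_forall [FiniteDimensional K V] {W : Submodule K V} {g : V ≃ₗ[K] V}
    (h : ∀ x ∈ W, g x ∈ W) : g ∈ stabGrp W := by
  have hle : W.map (g : V →ₗ[K] V) ≤ W := by
    rintro _ ⟨x, hx, rfl⟩
    exact h x hx
  have heq : W.map (g : V →ₗ[K] V) = W :=
    Submodule.eq_of_le_of_finrank_eq hle (LinearEquiv.finrank_map_eq g W)
  intro x
  refine ⟨h x, fun hx => ?_⟩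
  rw [← heq] at hx
  obtain ⟨y, hy, hxy⟩ := hx
  have : y = x := g.injective hxy
  exact this ▸ hy

lemma stabGrp_orthogonal {W : Submodule K V} {g : V ≃ₗ[K] V} (hg : g ∈ isoGrp B)
    (hW : g ∈ stabGrp W) : g ∈ stabGrp (B.orthogonal W) := by
  intro x
  simp only [LinearMap.BilinForm.mem_orthogonal_iff]
  constructor
  · intro h w hw
    have hw' : g.symm w ∈ W := by
      rw [hW]; simpa using hw
    have := h _ hw'
    rw [← hg] at this
    simpa using this
  · intro h w hw
    have := h _ ((hW w).1 hw)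
    rwa [hg] at this

lemma forall_or_of_forall_or {A P Q : Submodule K V} (g : V →ₗ[K] V)
    (h : ∀ x ∈ A, g x ∈ P ∨ g x ∈ Q) : (∀ x ∈ A, g x ∈ P) ∨ (∀ x ∈ A, g x ∈ Q) := by
  by_contra hcon
  push Not at hcon
  obtain ⟨⟨x, hx, hxP⟩, ⟨y, hy, hyQ⟩⟩ := hcon
  have hxQ : g x ∈ Q := (h x hx).resolve_left hxP
  have hyP : g y ∈ P := (h y hy).resolve_right hyQ
  rcases h (x + y) (A.add_mem hx hy) with h1 | h1
  · rw [map_add] at h1
    exact hxP ((P.add_mem_iff_left hyP).1 h1)
  · rw [map_add] at h1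
    exact hyQ ((Q.add_mem_iff_right hxQ).1 h1)

include hB in
lemma nondegOn_of_disjoint {W : Submodule K V} (hW : Disjoint W (B.orthogonal W)) :
    NondegOn B W := by
  intro u hu hu0
  by_contra hcon
  push Not at hcon
  apply hu0
  refine (Submodule.disjoint_def.1 hW) u hu ?_
  rw [LinearMap.BilinForm.mem_orthogonal_iff]
  intro w hw
  rw [alt_swap hB, hcon w hw, neg_zero]

/-- Spreading lemma: inside `a + b` the component `a` may be replaced by any non-zero vector. -/
lemma tvSet_spread {A : Submodule K V} (hA : NondegOn B A) (hAM : ∀ a ∈ A, a ∈ tvSet B hB M)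
    {a a' b : V} (ha : a ∈ A) (ha' : a' ∈ A) (ha0 : a ≠ 0) (ha0' : a' ≠ 0)
    (hb : ∀ x ∈ A, B b x = 0) (hab : a + b ∈ tvSet B hB M) : a' + b ∈ tvSet B hB M := by
  have key : ∀ a a' : V, a ∈ A → a' ∈ A → B a a' ≠ 0 → a + b ∈ tvSet B hB M →
      a' + b ∈ tvSet B hB M := by
    intro a a' ha ha' haa hab
    have h := tvSet_add hB hab (hAM (a' - a) (A.sub_mem ha' ha))
      (by simp [hB a, hb a ha, hb a' ha', haa]) 1
    have e : a + b + (1 : K) • (a' - a) = a' + b := by rw [one_smul]; abel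
    rwa [e] at h
  obtain ⟨z, hz, hz1, hz2⟩ := exists_mem_ne_zero_both A (B a) (B a') (hA a ha ha0) (hA a' ha' ha0')
  exact key z a' hz ha' (by rw [alt_swap hB]; simpa using hz2) (key a z ha hz hz1 hab)

include hB in
/-- Abstract form: the stabiliser of a non-degenerate subspace of less than half the dimension is
maximal in the symplectic group. -/
theorem isoGrp_le_of_nondeg [FiniteDimensional K V] (hnd : B.Nondegenerate) {W : Submodule K V}
    (hW : Disjoint W (B.orthogonal W)) (hW0 : W ≠ ⊥)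
    (hdim : finrank K W < finrank K (B.orthogonal W))
    (hM : isoGrp B ⊓ stabGrp W ≤ M) {g : V ≃ₗ[K] V} (hgM : g ∈ M) (hg : g ∈ isoGrp B)
    (hgW : g ∉ stabGrp W) : isoGrp B ≤ M := by
  have hc : IsCompl W (B.orthogonal W) :=
    (LinearMap.BilinForm.isCompl_orthogonal_iff_disjoint hB.isRefl).2 hW
  have hperp : ∀ s ∈ W, ∀ u ∈ B.orthogonal W, B s u = 0 := fun s hs u hu =>
    LinearMap.BilinForm.mem_orthogonal_iff.1 hu s hs
  have hperp' : ∀ u ∈ B.orthogonal W, ∀ s ∈ W, B u s = 0 := fun u hu s hs => by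
    rw [alt_swap hB, hperp s hs u hu, neg_zero]
  have h1 : ∀ v ∈ W, v ∈ tvSet B hB M := fun v hv c =>
    hM ⟨stv_mem_isoGrp hB v c, stv_mem_stabGrp hB hv c⟩
  have h2 : ∀ v ∈ B.orthogonal W, v ∈ tvSet B hB M := fun v hv c => by
    refine hM ⟨stv_mem_isoGrp hB v c, mem_stabGrp_of_forall fun x hx => ?_⟩
    rw [stv_apply, hperp x hx v hv]
    simpa using hx
  -- a vector of the transvection set outside of both subspaces
  have h3 : ∃ u ∈ tvSet B hB M, u ∉ W ∧ u ∉ B.orthogonal W := by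
    by_contra hcon
    push Not at hcon
    have hA : ∀ x ∈ W, (g : V →ₗ[K] V) x ∈ W ∨ (g : V →ₗ[K] V) x ∈ B.orthogonal W := by
      intro x hx
      by_cases hxW : g x ∈ W
      · exact Or.inl hxW
      · exact Or.inr (hcon _ (tvSet_map hB hgM hg (h1 x hx)) hxW)
    have hA' : ∀ x ∈ B.orthogonal W,
        (g : V →ₗ[K] V) x ∈ W ∨ (g : V →ₗ[K] V) x ∈ B.orthogonal W := by
      intro x hx
      by_cases hxW : g x ∈ W
      · exact Or.inl hxW
      · exact Or.inr (hcon _ (tvSet_map hB hgM hg (h2 x hx)) hxW)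
    rcases forall_or_of_forall_or _ hA with hP | hP
    · exact hgW (mem_stabGrp_of_forall hP)
    · rcases forall_or_of_forall_or _ hA' with hQ | hQ
      · have hle : (B.orthogonal W).map (g : V →ₗ[K] V) ≤ W := by
          rintro _ ⟨x, hx, rfl⟩
          exact hQ x hx
        have := Submodule.finrank_mono hle
        rw [LinearEquiv.finrank_map_eq g] at this
        omega
      · have htop : ∀ x : V, g x ∈ B.orthogonal W := by
          intro x
          have hx : x ∈ W ⊔ B.orthogonal W := by rw [hc.sup_eq_top]; trivial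
          obtain ⟨s, hs, y, hy, rfl⟩ := Submodule.mem_sup.1 hx
          rw [map_add]
          exact Submodule.add_mem _ (hP s hs) (hQ y hy)
        apply hW0
        rw [Submodule.eq_bot_iff]
        intro x hx
        have := htop (g.symm x)
        rw [LinearEquiv.apply_symm_apply] at this
        exact (Submodule.disjoint_def.1 hW) x hx this
  obtain ⟨u, hu, huW, huW'⟩ := h3
  have hu' : u ∈ W ⊔ B.orthogonal W := by rw [hc.sup_eq_top]; trivial
  obtain ⟨a, ha, b, hb, rfl⟩ := Submodule.mem_sup.1 hu'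
  have ha0 : a ≠ 0 := by rintro rfl; apply huW'; simpa using hb
  have hb0 : b ≠ 0 := by rintro rfl; apply huW; simpa using ha
  apply isoGrp_le_of_stv_mem hB hnd
  intro x
  change x ∈ tvSet B hB M
  have hx : x ∈ W ⊔ B.orthogonal W := by rw [hc.sup_eq_top]; trivial
  obtain ⟨a', ha', b', hb', rfl⟩ := Submodule.mem_sup.1 hx
  by_cases ha0' : a' = 0
  · subst ha0'; simpa using h2 b' hb'
  by_cases hb0' : b' = 0
  · subst hb0'; simpa using h1 a' ha'
  have s1 : a' + b ∈ tvSet B hB M :=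
    tvSet_spread hB (nondegOn_of_disjoint hB hW) h1 ha ha' ha0 ha0' (hperp' b hb) hu
  rw [add_comm] at s1 ⊢
  exact tvSet_spread hB (nondegOn_orthogonal hB hnd hW) h2 hb hb' hb0 hb0' (hperp a' ha') s1


include hB in
lemma exists_not_stab_nondeg {W : Submodule K V}
    (hW : Disjoint W (B.orthogonal W)) (hW0 : W ≠ ⊥) (hW1 : B.orthogonal W ≠ ⊥) :
    ∃ g ∈ isoGrp B, g ∉ stabGrp W := by
  obtain ⟨a, ha, ha0⟩ := Submodule.exists_mem_ne_zero_of_ne_bot hW0
  obtain ⟨b, hb, hb0⟩ := Submodule.exists_mem_ne_zero_of_ne_bot hW1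
  obtain ⟨x, hx, hax⟩ := nondegOn_of_disjoint hB hW a ha ha0
  refine ⟨stv B hB (a + b) 1, stv_mem_isoGrp hB _ _, fun h => ?_⟩
  have h1 := (h x).1 hx
  have hxb : B x b = 0 := LinearMap.BilinForm.mem_orthogonal_iff.1 hb x hx
  have hxa : B x a ≠ 0 := by rw [alt_swap hB]; simpa using hax
  rw [stv_apply, map_add, hxb, add_zero, one_mul, smul_add] at h1
  have h2 : B x a • b ∈ W := by
    have := W.sub_mem (W.sub_mem h1 hx) (W.smul_mem (B x a) ha)
    have e : x + (B x a • a + B x a • b) - x - B x a • a = B x a • b := by abel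
    rwa [e] at this
  have h3 : b ∈ W := (W.smul_mem_iff hxa).1 h2
  exact hb0 ((Submodule.disjoint_def.1 hW) b h3 hb)

end Cfsg.Agent.Lib.Helper95
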